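import Cfsg.Agent.CharDeep.Deg.Supplement
import Cfsg.Agent.CharDeep.Deg.DegreeP
import Cfsg.Agent.Lib.CharCore.Complete

/-!
# Characters of maximal degree and subgroups

General facts used for the bound on the index of an abelian subgroup in terms of the largest
character degree.
-/

namespace Cfsg.Agent.CharDeep.AbIndex

open scoped ComplexConjugate
open CharCore

universe u

variable {G : Type u} [Group G]

/-- All irreducible character degrees are at most `b`. -/
def DegLE (G : Type u) [Group G] (b : ℕ) : Prop :=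
  ∀ χ : Cfsg.IrrCharacter G, Cfsg.charDegree (χ : G → ℂ) ≤ b

theorem exists_over' [Fintype G] (H : Subgroup G) [Fintype H] (θ : Cfsg.IrrCharacter H) :
    ∃ χ : Cfsg.IrrCharacter G, Cfsg.classInner (fun h : H => (χ : G → ℂ) h) θ ≠ 0 := by
  by_contra! hcon
  have hI := CharInd.isCharacter_indFun H (irr_isCharacter θ)
  have h1 := congrFun (IsCharacter.eq_sum_classInner hI) 1
  rw [CharInd.indFun_apply_one, Finset.sum_apply, Finset.sum_eq_zero fun χ _ => ?_] at h1
  · exact mul_ne_zero (Nat.cast_ne_zero.mpr Subgroup.index_ne_zero_of_finite)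
      (irr_apply_one_ne_zero θ) h1
  · rw [Pi.smul_apply, CharInd.classInner_indFun_left H _ (irr_isClassFunction χ),
      ← conj_classInner, hcon χ, map_zero, zero_smul]

theorem degree_le_of_constituent [Fintype G] (H : Subgroup G) [Fintype H]
    (θ : Cfsg.IrrCharacter H) (χ : Cfsg.IrrCharacter G)
    (hne : Cfsg.classInner (fun h : H => (χ : G → ℂ) h) θ ≠ 0) :
    Cfsg.charDegree (θ : H → ℂ) ≤ Cfsg.charDegree (χ : G → ℂ) := by
  rcases Deg.eq_or_degree_lt (isCharacter_restrict (irr_isCharacter χ) H) θ hne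
    (Deg.apply_one θ) (b := Cfsg.charDegree (χ : G → ℂ)) (by simp [Deg.apply_one χ]) with h | h
  · exact (Deg.degree_of_eq (show (θ : H → ℂ) 1 = Cfsg.charDegree (χ : G → ℂ) by
      rw [← h]; simp [Deg.apply_one χ])).le
  · exact h.le

theorem degLE_subgroup [Finite G] {b : ℕ} (hb : DegLE G b) (H : Subgroup G) : DegLE H b := by
  classical
  have := Fintype.ofFinite G
  intro θ
  obtain ⟨χ, hχ⟩ := exists_over' H θ
  exact (degree_le_of_constituent H θ χ hχ).trans (hb χ)

theorem degLE_quotient [Finite G] {b : ℕ} (hb : DegLE G b) (N : Subgroup G) [N.Normal] :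
    DegLE (G ⧸ N) b := fun θ => by
  obtain ⟨χ, hd, -⟩ := Deg.exists_inflate N θ
  exact hd ▸ hb χ

/-- A constituent of at least the degree of the character is the restriction. -/
theorem restrict_eq_of_le [Fintype G] (H : Subgroup G) [Fintype H]
    (θ : Cfsg.IrrCharacter H) (χ : Cfsg.IrrCharacter G)
    (hne : Cfsg.classInner (fun h : H => (χ : G → ℂ) h) θ ≠ 0)
    (hle : Cfsg.charDegree (χ : G → ℂ) ≤ Cfsg.charDegree (θ : H → ℂ)) (h : H) :
    (χ : G → ℂ) h = (θ : H → ℂ) h := by
  rcases Deg.eq_or_degree_lt (isCharacter_restrict (irr_isCharacter χ) H) θ hne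
    (Deg.apply_one θ) (b := Cfsg.charDegree (χ : G → ℂ)) (by simp [Deg.apply_one χ]) with h' | h'
  · exact congrFun h' h
  · omega

/-- A character of maximal degree of a subgroup vanishes off the core. -/
theorem conj_mem_of_ne_zero [Fintype G] {b : ℕ} (hb : DegLE G b) (H : Subgroup G) [Fintype H]
    (θ : Cfsg.IrrCharacter H) (hθ : Cfsg.charDegree (θ : H → ℂ) = b) (h : H)
    (hne : (θ : H → ℂ) h ≠ 0) (x : G) : x⁻¹ * h * x ∈ H := by
  classical
  by_contra hx
  set I := Cfsg.indFun H (θ : H → ℂ) with hI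
  have hIc := CharInd.isCharacter_indFun H (irr_isCharacter θ)
  have hval : ∀ χ : Cfsg.IrrCharacter G, Cfsg.classInner I χ ≠ 0 →
      ∀ k : H, (χ : G → ℂ) k = (θ : H → ℂ) k := fun χ hχ k => by
    refine restrict_eq_of_le H θ χ (fun h0 => hχ ?_) (by rw [hθ]; exact hb χ) k
    rw [hI, CharInd.classInner_indFun_left H _ (irr_isClassFunction χ), ← conj_classInner, h0,
      map_zero]
  set s : ℂ := ∑ χ : Cfsg.IrrCharacter G, Cfsg.classInner I χ with hs
  have hk : ∀ k : H, I k = s * (θ : H → ℂ) k := fun k => by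
    conv_lhs => rw [hI, IsCharacter.eq_sum_classInner hIc, ← hI]
    rw [Finset.sum_apply, hs, Finset.sum_mul]
    refine Finset.sum_congr rfl fun χ _ => ?_
    rw [Pi.smul_apply, smul_eq_mul]
    by_cases h0 : Cfsg.classInner I χ = 0
    · rw [h0, zero_mul, zero_mul]
    · rw [hval χ h0]
  have h1 := hk 1
  rw [OneMemClass.coe_one, hI, CharInd.indFun_apply_one] at h1
  have hsn : s = H.index := (mul_right_cancel₀ (irr_apply_one_ne_zero θ) h1).symm
  obtain ⟨χ₀, hχ₀⟩ : ∃ χ₀ : Cfsg.IrrCharacter G, Cfsg.classInner I χ₀ ≠ 0 := by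
    by_contra! hcon
    rw [hs, Finset.sum_eq_zero fun χ _ => hcon χ] at hsn
    exact Nat.cast_ne_zero.mpr Subgroup.index_ne_zero_of_finite hsn.symm
  have hterm : ∀ y : G, Cfsg.extendByZero H (θ : H → ℂ) (y⁻¹ * h * y) =
      if y⁻¹ * (h : G) * y ∈ H then (θ : H → ℂ) h else 0 := fun y => by
    split_ifs with hy
    · rw [CharInd.extendByZero_mem _ hy, ← hval χ₀ hχ₀, ← hval χ₀ hχ₀]
      have := irr_isClassFunction χ₀ h y⁻¹
      rwa [inv_inv] at this
    · exact CharInd.extendByZero_notMem _ hy
  have h2 := hk h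
  rw [hI, CharInd.indFun_apply, Finset.sum_congr rfl (fun y _ => hterm y), ← Finset.sum_filter,
    Finset.sum_const, nsmul_eq_mul, hsn, ← mul_assoc] at h2
  have h3 := mul_right_cancel₀ hne h2
  rw [inv_mul_eq_iff_eq_mul₀ (CharInd.natCard_subgroup_ne_zero H), ← Nat.cast_mul,
    Subgroup.card_mul_index, Nat.cast_inj, Nat.card_eq_fintype_card,
    Finset.card_eq_iff_eq_univ] at h3
  have hxf := Finset.mem_univ x
  rw [← h3] at hxf
  exact hx (Finset.mem_filter.mp hxf).2

theorem sum_normSq [Fintype G] (θ : Cfsg.IrrCharacter G) :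
    ∑ g : G, Complex.normSq ((θ : G → ℂ) g) = Nat.card G := by
  have h := classInner_irr_self θ
  rw [classInner_def, inv_mul_eq_one₀ (Nat.cast_ne_zero.mpr Nat.card_pos.ne')] at h
  simp only [Complex.mul_conj] at h
  exact_mod_cast h.symm

theorem normSq_le [Finite G] (θ : Cfsg.IrrCharacter G) (g : G) :
    Complex.normSq ((θ : G → ℂ) g) ≤ (Cfsg.charDegree (θ : G → ℂ) : ℝ) ^ 2 := by
  have h := IsCharacter.norm_apply_le (irr_isCharacter θ) g
  rw [Deg.apply_one θ, Complex.norm_natCast] at h
  rw [Complex.normSq_eq_norm_sq]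
  exact pow_le_pow_left₀ (norm_nonneg _) h 2

/-- A character vanishing off a subgroup bounds its index. -/
theorem index_le_of_support [Finite G] (θ : Cfsg.IrrCharacter G) (M : Subgroup G)
    (h : ∀ g : G, g ∉ M → (θ : G → ℂ) g = 0) : M.index ≤ Cfsg.charDegree (θ : G → ℂ) ^ 2 := by
  classical
  have := Fintype.ofFinite G
  have h1 := sum_normSq θ
  rw [← Finset.sum_filter_of_ne (p := fun g => g ∈ M) (fun g _ hg => by
    by_contra hM; exact hg (by rw [h g hM, Complex.normSq_zero]))] at h1
  have h2 : (∑ g ∈ Finset.univ.filter (fun g => g ∈ M), Complex.normSq ((θ : G → ℂ) g)) ≤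
      Nat.card M * (Cfsg.charDegree (θ : G → ℂ) : ℝ) ^ 2 := by
    refine (Finset.sum_le_sum fun g _ => normSq_le θ g).trans (le_of_eq ?_)
    rw [Finset.sum_const, nsmul_eq_mul, Nat.card_eq_fintype_card, Fintype.card_subtype]
  rw [h1, ← M.card_mul_index, Nat.cast_mul] at h2
  exact_mod_cast le_of_mul_le_mul_left h2 (by exact_mod_cast (Nat.card_pos : 0 < Nat.card M))

/-- If a character of large degree of a normal subgroup `K` exists and `G/K` is nonabelian, then
some character of `G` has larger degree. -/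
theorem two_mul_degree_le [Finite G] {b : ℕ} (hb : DegLE G b) (K : Subgroup G) [K.Normal]
    (η : Cfsg.IrrCharacter (G ⧸ K)) (hη : 2 ≤ Cfsg.charDegree (η : G ⧸ K → ℂ))
    (θ : Cfsg.IrrCharacter K) : 2 * Cfsg.charDegree (θ : K → ℂ) ≤ b := by
  classical
  have := Fintype.ofFinite G
  have := Fintype.ofFinite K
  obtain ⟨χ, hχ⟩ := exists_over' K θ
  obtain ⟨k, hk⟩ := Ext.dvd_degree_of_constituent K θ.2 χ.2 (Deg.apply_one θ) (Deg.apply_one χ) hχ
  have hbχ := hb χ
  rcases Nat.lt_or_ge k 2 with hk2 | hk2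
  · have hk1 : k = 1 := by
      have := Deg.degree_pos χ
      rcases k with _ | _ | k <;> simp_all
    have hres : (fun n : K => (χ : G → ℂ) n) = θ :=
      funext fun n => restrict_eq_of_le K θ χ hχ (by rw [hk, hk1, mul_one]) n
    obtain ⟨η', hη', hval⟩ := Deg.exists_inflate K η
    have hirr : Cfsg.IsIrrCharacter G ((η' : G → ℂ) * (χ : G → ℂ)) :=
      Ext.isIrrCharacter_mul (N := K) χ.2 (hres ▸ θ.2) η'.2 fun n g => by
        simp only [hval, map_mul]
        rw [(QuotientGroup.eq_one_iff (n : G)).mpr n.2 |> fun h =>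
          (show QuotientGroup.mk' K (n : G) = 1 from h), one_mul]
    have h2 := hb ⟨_, hirr⟩
    rw [Deg.degree_of_eq (f := (η' : G → ℂ) * (χ : G → ℂ))
      (n := Cfsg.charDegree (η' : G → ℂ) * Cfsg.charDegree (χ : G → ℂ)) (by
        rw [Pi.mul_apply, Deg.apply_one η', Deg.apply_one χ, Nat.cast_mul]), hη', hk, hk1,
      mul_one] at h2
    nlinarith
  · nlinarith [Nat.mul_le_mul_left (Cfsg.charDegree (θ : K → ℂ)) hk2]

theorem det_rep_eq_one [Finite G] (hperf : commutator G = ⊤) {V : Type*} [AddCommGroup V]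
    [Module ℂ V] (ρ : Representation ℂ G V) (g : G) : LinearMap.det (ρ g) = 1 := by
  let f : G →* ℂˣ := (LinearMap.det.comp ρ).toHomUnits
  have hf : f g = 1 := MonoidHom.mem_ker.mp
    ((Abelianization.commutator_subset_ker f) (hperf ▸ Subgroup.mem_top g))
  exact congrArg Units.val hf

/-- A finite simple nonabelian group has an irreducible character of degree at least five. -/
theorem not_degLE_four_of_simple {S : Type u} [Group S] [Finite S] [IsSimpleGroup S]
    (hperf : commutator S = ⊤) : ¬ DegLE S 4 := by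
  classical
  have := Fintype.ofFinite S
  intro hb
  let one : Cfsg.IrrCharacter S := ⟨1, isIrrCharacter_one⟩
  have htriv : ∀ χ : Cfsg.IrrCharacter S, χ ≠ one → ∀ g : S,
      (χ : S → ℂ) g = (χ : S → ℂ) 1 → g = 1 := by
    intro χ hχ g hg
    rcases (charKernel_normal (irr_isCharacter χ)).eq_bot_or_eq_top with h | h
    · exact Subgroup.mem_bot.mp (h ▸ hg)
    · exfalso
      have hconst : ∀ x : S, (χ : S → ℂ) x = (χ : S → ℂ) 1 := fun x =>
        (mem_charKernel (irr_isCharacter χ) x).mp (h ▸ Subgroup.mem_top x)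
      have h0 := classInner_irr_of_ne hχ
      rw [classInner_def, Finset.sum_congr rfl (g := fun _ => (χ : S → ℂ) 1) (fun x _ => by
        rw [hconst x]; simp [one]), Finset.sum_const, nsmul_eq_mul] at h0
      simp [Nat.card_pos.ne', irr_apply_one_ne_zero χ, Fintype.card_ne_zero] at h0
  have hdeg1 : ∀ χ : Cfsg.IrrCharacter S, χ ≠ one → Cfsg.charDegree (χ : S → ℂ) ≠ 1 := by
    intro χ hχ h
    obtain ⟨f, hf⟩ := IsCharacter.exists_hom_of_degree_one (irr_isCharacter χ)
      (by rw [Deg.apply_one χ, h, Nat.cast_one])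
    obtain ⟨g, hg⟩ : ∃ g : S, g ≠ 1 := exists_ne 1
    refine hg (htriv χ hχ g ?_)
    have hf1 : f g = 1 := MonoidHom.mem_ker.mp
      ((Abelianization.commutator_subset_ker f) (hperf ▸ Subgroup.mem_top g))
    rw [hf]
    simp [hf1]
  by_cases h2 : 2 ∣ Nat.card S
  · obtain ⟨t, ht⟩ := exists_prime_orderOf_dvd_card' (G := S) 2 h2
    have ht1 : t ≠ 1 := by rintro rfl; simp at ht
    have hncent : ∀ x : S, (∀ y, y * x = x * y) → x = 1 := fun x hx => by
      rcases (Subgroup.instNormalCenter (G := S)).eq_bot_or_eq_top with h | h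
      · exact Subgroup.mem_bot.mp (h ▸ Subgroup.mem_center_iff.mpr hx)
      · exfalso
        have hc : commutator S = ⊥ := by
          rw [commutator_def, Subgroup.commutator_eq_bot_iff_le_centralizer,
            Subgroup.coe_top, Subgroup.centralizer_univ, h]
        exact bot_ne_top (hc.symm.trans hperf)
    have hval : ∀ χ : Cfsg.IrrCharacter S, χ ≠ one →
        ∃ z : ℤ, (χ : S → ℂ) 1 * conj ((χ : S → ℂ) t) = ((3 * z : ℤ) : ℂ) := by
      intro χ hχ
      obtain ⟨n, ρ, hρ, hchar⟩ := χ.2
      have hn : Cfsg.charDegree (χ : S → ℂ) = n := Deg.degree_of_eq (by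
        rw [← hchar, Representation.char_one, Module.finrank_fin_fun])
      have hn4 : n ≤ 4 := hn ▸ hb χ
      have hT : ρ t ^ 2 = 1 := by rw [← map_pow, ← ht, pow_orderOf_eq_one, map_one]
      obtain ⟨B, ω, hω⟩ := exists_eigenbasis (ρ t) two_pos hT
      have hprod : ∏ i, ω i = 1 := by
        rw [← det_rep_eq_one hperf ρ t, ← LinearMap.det_toMatrix B,
          show LinearMap.toMatrix B B (ρ t) = Matrix.diagonal ω from ?_, Matrix.det_diagonal]
        ext i j
        rw [LinearMap.toMatrix_apply, (hω j).2, map_smul, B.repr_self, Finsupp.smul_single,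
          Matrix.diagonal_apply, Finsupp.single_apply]
        by_cases hij : i = j <;> simp [hij, eq_comm]
      have hsign : ∀ i, ω i = 1 ∨ ω i = -1 := fun i => sq_eq_one_iff.mp (hω i).1
      have hnot : ∀ c : ℂ, ¬ ∀ i, ω i = c := by
        intro c hc
        refine ht1 (hncent t fun y => ?_)
        have hid : ρ t = c • (LinearMap.id : (Fin n → ℂ) →ₗ[ℂ] (Fin n → ℂ)) :=
          B.ext fun i => by simp [(hω i).2, hc i]
        have hinj : Function.Injective ρ := (injective_iff_map_eq_one ρ).mpr
          fun x hx => htriv χ hχ x (by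
            rw [← hchar, Representation.char_one, Representation.character]
            rw [hx]
            simp)
        refine hinj ?_
        rw [map_mul, map_mul, hid]
        ext v
        simp
      have htr : (χ : S → ℂ) t = ∑ i, ω i := by
        rw [← hchar]
        exact trace_eq_sum_of_eigenbasis B ω _ fun i => (hω i).2
      have hd1 : n ≠ 1 := hn ▸ hdeg1 χ hχ
      have hd0 : n ≠ 0 := hn ▸ (Deg.degree_pos χ).ne'
      rw [Deg.apply_one χ, hn, htr]
      have hf : Module.finrank ℂ (Fin n → ℂ) = n := Module.finrank_fin_fun ℂ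
      revert B ω
      rw [hf]
      intro B ω _ hprod hsign hnot _
      interval_cases n
      · contradiction
      · contradiction
      · rcases hsign 0 with a | a <;> rcases hsign 1 with c | c <;>
          simp [Fin.prod_univ_succ, a, c] at hprod <;>
          first
          | (norm_num at hprod; done)
          | (refine absurd ?_ (hnot 1); simp [Fin.forall_fin_succ, a, c]; done)
          | (refine absurd ?_ (hnot (-1)); simp [Fin.forall_fin_succ, a, c]; done)
      · refine ⟨-1, ?_⟩
        rcases hsign 0 with a | a <;> rcases hsign 1 with c | c <;> rcases hsign 2 with e | e <;>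
          simp [Fin.prod_univ_succ, a, c, e] at hprod <;>
          first
          | (norm_num at hprod; done)
          | (refine absurd ?_ (hnot 1); simp [Fin.forall_fin_succ, a, c, e]; done)
          | (simp [Fin.sum_univ_succ, a, c, e]; done)
      · refine ⟨0, ?_⟩
        rcases hsign 0 with a | a <;> rcases hsign 1 with c | c <;> rcases hsign 2 with e | e <;>
          rcases hsign 3 with g | g <;>
          simp [Fin.prod_univ_succ, a, c, e, g] at hprod <;>
          first
          | (norm_num at hprod; done)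
          | (refine absurd ?_ (hnot 1); simp [Fin.forall_fin_succ, a, c, e, g]; done)
          | (refine absurd ?_ (hnot (-1)); simp [Fin.forall_fin_succ, a, c, e, g]; done)
          | (simp [Fin.sum_univ_succ, a, c, e, g]; done)
    have hcol := sum_apply_mul_conj (1 : S) t
    rw [if_neg (fun h => ht1 (isConj_one_right.mp h)),
      ← Finset.add_sum_erase _ _ (Finset.mem_univ one)] at hcol
    choose z hz using hval
    rw [← Finset.sum_attach, Finset.sum_congr rfl fun χ _ =>
      hz χ.1 (Finset.ne_of_mem_erase χ.2)] at hcol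
    simp only [one, Pi.one_apply, map_one, mul_one, ← Int.cast_sum, ← Finset.mul_sum] at hcol
    norm_cast at hcol
    omega
  · have h3 : ∀ χ : Cfsg.IrrCharacter S, χ ≠ one → Cfsg.charDegree (χ : S → ℂ) = 3 := by
      intro χ hχ
      obtain ⟨d, -, hdd, hd⟩ := CharClifford.exists_degree_dvd_card χ.2
      rw [← Deg.degree_of_eq hd] at hdd
      have h4 := hb χ
      have h1 := hdeg1 χ hχ
      have h0 := Deg.degree_pos χ
      rcases (show Cfsg.charDegree (χ : S → ℂ) = 2 ∨ Cfsg.charDegree (χ : S → ℂ) = 3 ∨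
        Cfsg.charDegree (χ : S → ℂ) = 4 by omega) with h | h | h
      · exact absurd (h ▸ hdd) h2
      · exact h
      · exact absurd ((show (2:ℕ) ∣ 4 by norm_num).trans (h ▸ hdd)) h2
    have hsum := sum_degree_sq (G := S)
    rw [← Finset.add_sum_erase _ _ (Finset.mem_univ one), Finset.sum_congr rfl (g := fun _ =>
      ((3 : ℕ) : ℂ) ^ 2) (fun χ hχ => by rw [Deg.apply_one χ, h3 χ (Finset.ne_of_mem_erase hχ)]),
      Finset.sum_const, nsmul_eq_mul] at hsum
    simp only [one, Pi.one_apply, one_pow] at hsum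
    obtain ⟨χ, hχ⟩ : ∃ χ : Cfsg.IrrCharacter S, χ ≠ one := by
      by_contra! hall
      have : Finset.univ.erase one = ∅ := Finset.eq_empty_of_forall_notMem fun χ hχ =>
        Finset.ne_of_mem_erase hχ (hall χ)
      rw [this] at hsum
      rw [Finset.card_empty, Nat.cast_zero, zero_mul, add_zero] at hsum
      have := Finite.one_lt_card_iff_nontrivial.mpr (inferInstance : Nontrivial S)
      have : (1 : ℕ) = Nat.card S := by exact_mod_cast hsum
      omega
    obtain ⟨d, -, hdd, hd⟩ := CharClifford.exists_degree_dvd_card χ.2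
    rw [← Deg.degree_of_eq hd, h3 χ hχ] at hdd
    have hsum' : 1 + (Finset.univ.erase one).card * 3 ^ 2 = Nat.card S := by exact_mod_cast hsum
    omega

/-- A nontrivial perfect finite group has an irreducible character of degree at least five. -/
theorem not_degLE_four_of_perfect {D : Type u} [Group D] [Finite D] [Nontrivial D]
    (hperf : commutator D = ⊤) : ¬ DegLE D 4 := by
  intro hb
  obtain ⟨M, -, ⟨⟨hMn, hM⟩, hmax⟩⟩ := Finite.exists_le_maximal
    (p := fun M : Subgroup D => M.Normal ∧ M ≠ ⊤) (a := (⊥ : Subgroup D))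
    ⟨inferInstance, bot_ne_top⟩
  have : Nontrivial (D ⧸ M) := QuotientGroup.nontrivial_iff.mpr hM
  have : IsSimpleGroup (D ⧸ M) := ⟨fun N hN => by
    have hc : (N.comap (QuotientGroup.mk' M)).Normal := hN.comap _
    have hle : M ≤ N.comap (QuotientGroup.mk' M) := fun m hm => by
      simp [(QuotientGroup.eq_one_iff m).mpr hm]
    by_cases ht : N.comap (QuotientGroup.mk' M) = ⊤
    · right
      rw [← Subgroup.map_comap_eq_self_of_surjective (QuotientGroup.mk'_surjective M) N, ht,
        Subgroup.map_top_of_surjective _ (QuotientGroup.mk'_surjective M)]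
    · left
      rw [← Subgroup.map_comap_eq_self_of_surjective (QuotientGroup.mk'_surjective M) N,
        le_antisymm (hmax ⟨hc, ht⟩ hle) hle, Subgroup.map_eq_bot_iff, QuotientGroup.ker_mk']⟩
  refine not_degLE_four_of_simple (S := D ⧸ M) ?_ (degLE_quotient hb M)
  rw [commutator_def, ← Subgroup.map_top_of_surjective _ (QuotientGroup.mk'_surjective M),
    ← Subgroup.map_commutator, ← commutator_def, hperf]

end Cfsg.Agent.CharDeep.AbIndex
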