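import Cfsg.Agent.CharDeep.AbIndex.Quot

/-!
# An abelian subgroup of index at most the square of the factorial of the largest degree
-/

namespace Cfsg.Agent.CharDeep.AbIndex

open CharCore

universe u

theorem exists_step {G : Type u} [Group G] [Finite G] {b : ℕ} (hb : DegLE G b)
    (hna : ¬ ∀ x y : G, x * y = y * x) : Step G b := by
  classical
  obtain ⟨K, -, ⟨⟨hKn, hKc⟩, hmax⟩⟩ := Finite.exists_le_maximal
    (p := fun K : Subgroup G => K.Normal ∧ ¬ commutator G ≤ K) (a := (⊥ : Subgroup G))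
    ⟨inferInstance, fun h => hna fun x y => by
      have h1 : x * y * x⁻¹ * y⁻¹ = 1 := Subgroup.mem_bot.mp
        (h (Subgroup.commutator_mem_commutator (Subgroup.mem_top x) (Subgroup.mem_top y)))
      rwa [mul_inv_eq_one, mul_inv_eq_iff_eq_mul] at h1⟩
  have hmap : commutator (G ⧸ K) = (commutator G).map (QuotientGroup.mk' K) := by
    rw [commutator_def, commutator_def, Subgroup.map_commutator,
      Subgroup.map_top_of_surjective _ (QuotientGroup.mk'_surjective K)]
  have hmin : ∀ M : Subgroup (G ⧸ K), M.Normal → M ≠ ⊥ → commutator (G ⧸ K) ≤ M := by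
    intro M hM hne
    rw [hmap, Subgroup.map_le_iff_le_comap]
    have hKM : K ≤ M.comap (QuotientGroup.mk' K) := fun k hk => by
      simp [(QuotientGroup.eq_one_iff k).mpr hk]
    by_contra hcon
    refine hne ?_
    rw [← Subgroup.map_comap_eq_self_of_surjective (QuotientGroup.mk'_surjective K) M,
      le_antisymm (hmax ⟨hM.comap _, hcon⟩ hKM) hKM, Subgroup.map_eq_bot_iff, QuotientGroup.ker_mk']
  have hD0 : commutator (G ⧸ K) ≠ ⊥ := by
    rw [hmap, Ne, Subgroup.map_eq_bot_iff, QuotientGroup.ker_mk']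
    exact hKc
  obtain ⟨η, hη⟩ : ∃ η : Cfsg.IrrCharacter (G ⧸ K), Cfsg.charDegree (η : G ⧸ K → ℂ) ≠ 1 := by
    by_contra! hcon
    refine hD0 (eq_bot_iff.mpr ?_)
    rw [commutator_def, Subgroup.commutator_le]
    intro x _ y _
    rw [Subgroup.mem_bot, commutatorElement_def, mul_inv_eq_one, mul_inv_eq_iff_eq_mul]
    exact Deg.commute_of_degree_one hcon x y
  have hη2 : 2 ≤ Cfsg.charDegree (η : G ⧸ K → ℂ) := by
    have := Deg.degree_pos η
    omega
  have hfaith : ∀ q : G ⧸ K, (η : G ⧸ K → ℂ) q = (η : G ⧸ K → ℂ) 1 → q = 1 := by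
    intro q hq
    by_contra hq1
    have hn := CharDeep.transKer_normal (irr_isClassFunction η)
    have hle := hmin _ hn fun h => hq1 (Subgroup.mem_bot.mp
      (h ▸ CharDeep.mem_transKer_of_apply_eq (irr_isCharacter η) hq))
    exact hη (Deg.degree_of_eq (by rw [CharDeep.irr_apply_one_eq_one η.2 hle, Nat.cast_one]))
  by_cases hZ : Subgroup.center (G ⧸ K) = ⊥
  · by_cases hab : ∀ x ∈ commutator (G ⧸ K), ∀ y ∈ commutator (G ⧸ K), x * y = y * x
    · exact step_abelian hb K η hη2 hfaith hmin hZ hD0 hab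
    · exact step_perfect hb K η hη2 hfaith hmin hD0 hab
  · exact step_center hb K η hη2 hfaith hmin hZ

theorem exists_abelian : ∀ (b : ℕ) (G : Type u) [Group G] [Finite G], DegLE G b →
    ∃ A : Subgroup G, (∀ x ∈ A, ∀ y ∈ A, x * y = y * x) ∧ A.index ≤ Nat.factorial b ^ 2 := by
  intro b
  induction b using Nat.strong_induction_on with
  | _ b ih =>
    intro G _ _ hb
    by_cases hab : ∀ x y : G, x * y = y * x
    · exact ⟨⊤, fun x _ y _ => hab x y, by
        rw [Subgroup.index_top]; exact Nat.one_le_pow _ _ (Nat.factorial_pos b)⟩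
    obtain ⟨H, b', hlt, hH, hi⟩ := exists_step hb hab
    obtain ⟨A, hA, hAi⟩ := ih b' hlt H hH
    refine ⟨A.map H.subtype, ?_, ?_⟩
    · rintro _ ⟨x, hx, rfl⟩ _ ⟨y, hy, rfl⟩
      rw [← map_mul, ← map_mul, hA x hx y hy]
    · rw [Subgroup.index_map_subtype]
      calc A.index * H.index ≤ Nat.factorial b' ^ 2 * H.index := Nat.mul_le_mul_right _ hAi
        _ = H.index * Nat.factorial b' ^ 2 := mul_comm _ _
        _ ≤ Nat.factorial b ^ 2 := hi

end Cfsg.Agent.CharDeep.AbIndex
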