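import Cfsg.Agent.CharDeep.AbIndex.Basic
import Mathlib.GroupTheory.QuotientGroup.Basic

/-!
# Minimal nonabelian quotients and large character degrees

`K` is a normal subgroup whose quotient is nonabelian with every nontrivial normal subgroup
containing the derived subgroup.
-/

namespace Cfsg.Agent.CharDeep.AbIndex

open scoped ComplexConjugate
open CharCore

universe u

/-- A step of the induction: a subgroup of small index with smaller degrees. -/
def Step (G : Type u) [Group G] (b : ℕ) : Prop :=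
  ∃ (H : Subgroup G) (b' : ℕ), b' < b ∧ DegLE H b' ∧
    H.index * Nat.factorial b' ^ 2 ≤ Nat.factorial b ^ 2

theorem step_one {G : Type u} [Group G] {b : ℕ} (hb1 : 1 ≤ b) (H : Subgroup G)
    (hH : DegLE H (b - 1)) (hi : H.index ≤ b ^ 2) : Step G b := by
  refine ⟨H, b - 1, by omega, hH, ?_⟩
  rw [← Nat.mul_factorial_pred (n := b) (by omega), mul_pow]
  exact Nat.mul_le_mul_right _ hi

theorem step_two {G : Type u} [Group G] {b : ℕ} (hb3 : 3 ≤ b) (H : Subgroup G)
    (hH : DegLE H (b - 2)) (hi : H.index ≤ b ^ 3) : Step G b := by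
  refine ⟨H, b - 2, by omega, hH, ?_⟩
  obtain ⟨c, rfl⟩ : ∃ c, b = c + 3 := ⟨b - 3, by omega⟩
  rw [show c + 3 - 2 = c + 1 by omega, show Nat.factorial (c + 3) =
    (c + 3) * (c + 2) * Nat.factorial (c + 1) by
      rw [Nat.factorial_succ (c + 2), Nat.factorial_succ (c + 1)]; ring, mul_pow]
  refine Nat.mul_le_mul_right _ (hi.trans ?_)
  rw [mul_pow, pow_succ]
  exact Nat.mul_le_mul_left _ (by nlinarith)

theorem step_three {G : Type u} [Group G] {b : ℕ} (hb5 : 5 ≤ b) (H : Subgroup G)
    (hH : DegLE H (b - 3)) (hi : H.index ≤ b ^ 4) : Step G b := by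
  refine ⟨H, b - 3, by omega, hH, ?_⟩
  obtain ⟨c, rfl⟩ : ∃ c, b = c + 5 := ⟨b - 5, by omega⟩
  rw [show c + 5 - 3 = c + 2 by omega, show Nat.factorial (c + 5) =
    (c + 5) * ((c + 4) * (c + 3)) * Nat.factorial (c + 2) by
      rw [Nat.factorial_succ (c + 4), Nat.factorial_succ (c + 3), Nat.factorial_succ (c + 2)]; ring,
    mul_pow]
  refine Nat.mul_le_mul_right _ (hi.trans ?_)
  rw [mul_pow, show (c + 5) ^ 4 = (c + 5) ^ 2 * (c + 5) ^ 2 by ring]
  exact Nat.mul_le_mul_left _ (Nat.pow_le_pow_left (by nlinarith) 2)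

theorem degree_eq_of_not_lt {G : Type u} [Group G] [Finite G] {b : ℕ} (hb : DegLE G b)
    {H : Subgroup G} (h : ¬ DegLE H (b - 1)) :
    ∃ θ : Cfsg.IrrCharacter H, Cfsg.charDegree (θ : H → ℂ) = b := by
  simp only [DegLE, not_forall, not_le] at h
  obtain ⟨θ, hθ⟩ := h
  have := degLE_subgroup hb H θ
  exact ⟨θ, by omega⟩

variable {G : Type u} [Group G] [Finite G] {b : ℕ} (hb : DegLE G b) (K : Subgroup G) [K.Normal]
  (η : Cfsg.IrrCharacter (G ⧸ K)) (hη : 2 ≤ Cfsg.charDegree (η : G ⧸ K → ℂ))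
  (hfaith : ∀ q : G ⧸ K, (η : G ⧸ K → ℂ) q = (η : G ⧸ K → ℂ) 1 → q = 1)
  (hmin : ∀ M : Subgroup (G ⧸ K), M.Normal → M ≠ ⊥ → commutator (G ⧸ K) ≤ M)

include hb hη hfaith hmin

theorem step_center (hZ : Subgroup.center (G ⧸ K) ≠ ⊥) : Step G b := by
  classical
  have := Fintype.ofFinite G
  have := Fintype.ofFinite (G ⧸ K)
  set Z := Subgroup.center (G ⧸ K) with hZdef
  have hD : commutator (G ⧸ K) ≤ Z := hmin Z inferInstance hZ
  set e := Cfsg.charDegree (η : G ⧸ K → ℂ) with he
  have hon : ∀ z ∈ Z, Complex.normSq ((η : G ⧸ K → ℂ) z) = (e : ℝ) ^ 2 := fun z hz => by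
    obtain ⟨c, hcc, hc⟩ := Deg.exists_central_scalar η hz
    have h1 : (η : G ⧸ K → ℂ) z = c * (e : ℂ) := by rw [he, ← Deg.apply_one η]; simpa using hc 1
    have h3 : Complex.normSq c = 1 := by rw [Complex.mul_conj] at hcc; exact_mod_cast hcc
    rw [h1, Complex.normSq_mul, h3, one_mul, Complex.normSq_natCast]; ring
  have hoff : ∀ q, q ∉ Z → (η : G ⧸ K → ℂ) q = 0 := fun q hq => by
    by_contra hne
    refine hq (Subgroup.mem_center_iff.mpr fun x => ?_)
    have hc : x * q * x⁻¹ * q⁻¹ ∈ Z :=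
      hD (Subgroup.commutator_mem_commutator (Subgroup.mem_top x) (Subgroup.mem_top q))
    obtain ⟨c, -, hc'⟩ := Deg.exists_central_scalar η hc
    have h1 := hc' q
    rw [inv_mul_cancel_right, irr_isClassFunction η q x] at h1
    have hc1 : c = 1 := (mul_eq_right₀ hne).mp h1.symm
    have h2 := hfaith _ (by simpa [hc1] using hc' 1)
    rw [mul_inv_eq_one, mul_inv_eq_iff_eq_mul] at h2
    exact h2
  set ZG := Z.comap (QuotientGroup.mk' K) with hZG
  have hidx : ZG.index = Z.index :=
    Subgroup.index_comap_of_surjective Z (QuotientGroup.mk'_surjective K)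
  have hsq : Z.index = e ^ 2 := by
    have h1 := sum_normSq η
    rw [← Finset.sum_filter_of_ne (p := fun q => q ∈ Z) (fun q _ hne => by
      by_contra hq; exact hne (by rw [hoff q hq, Complex.normSq_zero])),
      Finset.sum_congr rfl (fun q hq => hon q (Finset.mem_filter.mp hq).2), Finset.sum_const,
      nsmul_eq_mul, ← Z.card_mul_index, Nat.cast_mul, ← Fintype.card_subtype,
      ← Nat.card_eq_fintype_card] at h1
    have := mul_left_cancel₀ (Nat.cast_ne_zero.mpr (Nat.card_pos (α := Z)).ne') h1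
    exact_mod_cast this.symm
  have hbQ : e ≤ b := degLE_quotient hb K η
  refine step_one (by omega) ZG ?_ (by rw [hidx, hsq]; exact Nat.pow_le_pow_left hbQ 2)
  by_contra hcon
  obtain ⟨θ, hθ⟩ := degree_eq_of_not_lt hb hcon
  have := Fintype.ofFinite ZG
  obtain ⟨χ, hχ⟩ := exists_over' ZG θ
  have hres : ∀ k : ZG, (χ : G → ℂ) k = (θ : ZG → ℂ) k :=
    restrict_eq_of_le ZG θ χ hχ (by rw [hθ]; exact hb χ)
  obtain ⟨η', hη', hval⟩ := Deg.exists_inflate K η
  have hirr : Cfsg.IsIrrCharacter G ((η' : G → ℂ) * (χ : G → ℂ)) := by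
    rw [isIrrCharacter_iff]
    refine ⟨isCharacter_mul (irr_isCharacter η') (irr_isCharacter χ), ?_⟩
    rw [classInner_def, inv_mul_eq_one₀ (Nat.cast_ne_zero.mpr Nat.card_pos.ne')]
    simp only [Complex.mul_conj, Pi.mul_apply, Complex.normSq_mul]
    rw [← Complex.ofReal_sum, ← Finset.sum_filter_of_ne (p := fun g => g ∈ ZG) (fun g _ hne => by
      by_contra hg
      exact hne (by rw [hval g, hoff _ hg, Complex.normSq_zero, zero_mul])),
      Finset.sum_congr rfl (fun g hg => show _ = (e : ℝ) ^ 2 * Complex.normSq ((χ : G → ℂ) g) by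
        rw [hval g, hon _ (Finset.mem_filter.mp hg).2]), ← Finset.mul_sum,
      Finset.sum_subtype (p := fun g => g ∈ ZG) (F := ‹Fintype ZG›) _ (fun g => by simp)]
    simp only [hres, sum_normSq θ]
    rw [← ZG.card_mul_index, hidx, hsq]
    push_cast
    ring
  have h2 := hb ⟨_, hirr⟩
  rw [Deg.degree_of_eq (f := (η' : G → ℂ) * (χ : G → ℂ)) (n := e * b) (by
    rw [Pi.mul_apply, Deg.apply_one η', hη', ← OneMemClass.coe_one ZG, hres, Deg.apply_one θ, hθ,
      Nat.cast_mul])] at h2
  nlinarith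

theorem step_abelian (hZ : Subgroup.center (G ⧸ K) = ⊥) (hD0 : commutator (G ⧸ K) ≠ ⊥)
    (hDab : ∀ x ∈ commutator (G ⧸ K), ∀ y ∈ commutator (G ⧸ K), x * y = y * x) : Step G b := by
  classical
  have := Fintype.ofFinite G
  have := Fintype.ofFinite (G ⧸ K)
  set D := commutator (G ⧸ K) with hDdef
  have hDn : D.Normal := by rw [hDdef]; infer_instance
  have := Fintype.ofFinite D
  have hcomm : ∀ a c : G ⧸ K, a * c * a⁻¹ * c⁻¹ ∈ D := fun a c =>
    Subgroup.commutator_mem_commutator (Subgroup.mem_top a) (Subgroup.mem_top c)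
  -- elements not centralising `D` have no fixed points on it
  have hfpf : ∀ g : G ⧸ K, (∃ d ∈ D, d * g ≠ g * d) → ∀ d ∈ D, d * g = g * d → d = 1 := by
    rintro g ⟨d₀, hd₀, hne⟩ d hd hdg
    have hn : (D ⊓ Subgroup.centralizer ({g} : Set (G ⧸ K))).Normal := ⟨fun e he h => by
      obtain ⟨he1, he2⟩ := Subgroup.mem_inf.mp he
      refine Subgroup.mem_inf.mpr ⟨hDn.conj_mem e he1 h, Subgroup.mem_centralizer_singleton_iff.mpr ?_⟩
      have h2 : e * g = g * e := Subgroup.mem_centralizer_singleton_iff.mp he2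
      have hc := hcomm g⁻¹ h⁻¹
      have h3 := hDab e he1 _ hc
      rw [show (g⁻¹ * h⁻¹ * g⁻¹⁻¹ * h⁻¹⁻¹ : G ⧸ K) = g⁻¹ * (h⁻¹ * g * h) by group] at h3
      have h4 : e * (h⁻¹ * g * h) = h⁻¹ * g * h * e := by
        have := congrArg (g * ·) h3
        simp only [← mul_assoc, mul_inv_cancel, one_mul, ← h2] at this
        simpa [mul_assoc] using this
      have h5 := congrArg (fun t => h * t * h⁻¹) h4
      simpa [mul_assoc] using h5⟩
    by_contra hd1
    have hmem : d ∈ D ⊓ Subgroup.centralizer ({g} : Set (G ⧸ K)) :=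
      Subgroup.mem_inf.mpr ⟨hd, Subgroup.mem_centralizer_singleton_iff.mpr hdg⟩
    have := hmin _ hn (fun h => hd1 (Subgroup.mem_bot.mp (h ▸ hmem))) hd₀
    exact hne (Subgroup.mem_centralizer_singleton_iff.mp (Subgroup.mem_inf.mp this).2)
  have hsurj : ∀ g : G ⧸ K, (∃ d ∈ D, d * g ≠ g * d) → ∀ e ∈ D, ∃ d ∈ D, d * g * d⁻¹ * g⁻¹ = e := by
    intro g hg e he
    let φ : D → D := fun d => ⟨(d : G ⧸ K) * g * (d : G ⧸ K)⁻¹ * g⁻¹, hcomm _ _⟩
    have hinj : Function.Injective φ := fun d d' h => by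
      have h' : (d : G ⧸ K) * g * (d : G ⧸ K)⁻¹ = d' * g * (d' : G ⧸ K)⁻¹ :=
        mul_right_cancel (congrArg Subtype.val h)
      have h0 : ((d' : G ⧸ K)⁻¹ * d) * g = g * ((d' : G ⧸ K)⁻¹ * d) := by
        have := congrArg (fun t => (d' : G ⧸ K)⁻¹ * t * d) h'
        simpa [mul_assoc] using this
      exact Subtype.ext (inv_mul_eq_one.mp
        (hfpf g hg _ (D.mul_mem (D.inv_mem d'.2) d.2) h0)).symm
    obtain ⟨d, hd⟩ := Finite.surjective_of_injective hinj ⟨e, he⟩
    exact ⟨d, d.2, congrArg Subtype.val hd⟩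
  obtain ⟨x, hx⟩ : ∃ x : G ⧸ K, ∃ d ∈ D, d * x ≠ x * d := by
    by_contra! hcon
    exact hD0 (eq_bot_iff.mpr fun d hd => hZ ▸ Subgroup.mem_center_iff.mpr fun g => (hcon g d hd).symm)
  have hout : ∀ g : G ⧸ K, g ∉ D → ∃ d ∈ D, d * g ≠ g * d := by
    intro c hc
    by_contra! hall
    obtain ⟨d, hd, hde⟩ := hsurj x hx (c * x * c⁻¹ * x⁻¹) (hcomm _ _)
    set c' := d⁻¹ * c with hc'
    have hc'x : c' * x = x * c' := by
      have h' : d * x * d⁻¹ = c * x * c⁻¹ := mul_right_cancel hde
      have := congrArg (fun t => d⁻¹ * t * c) h'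
      simp [mul_assoc] at this
      rw [hc']
      simpa [mul_assoc] using this.symm
    have hc'D : ∀ e ∈ D, e * c' = c' * e := fun e he => by
      rw [hc', ← mul_assoc, hDab e he _ (D.inv_mem hd), mul_assoc, hall e he, mul_assoc]
    have : c' = 1 := by
      refine Subgroup.mem_bot.mp (hZ ▸ Subgroup.mem_center_iff.mpr fun y => ?_)
      obtain ⟨d', hd', hde'⟩ := hsurj x hx (y * x * y⁻¹ * x⁻¹) (hcomm _ _)
      set y' := d'⁻¹ * y with hy'
      have hy'x : y' * x = x * y' := by
        have h' : d' * x * d'⁻¹ = y * x * y⁻¹ := mul_right_cancel hde'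
        have := congrArg (fun t => d'⁻¹ * t * y) h'
        simp [mul_assoc] at this
        rw [hy']
        simpa [mul_assoc] using this.symm
      have h1 : c' * y' * c'⁻¹ * y'⁻¹ = 1 := by
        refine hfpf x hx _ (hcomm _ _) ?_
        have hc : Commute c' x := hc'x
        have hy : Commute y' x := hy'x
        exact (((hc.mul_left hy).mul_left hc.inv_left).mul_left hy.inv_left)
      rw [mul_inv_eq_one, mul_inv_eq_iff_eq_mul] at h1
      have hy : y = d' * y' := by simp [hy']
      rw [hy, mul_assoc, ← h1, ← mul_assoc, hc'D d' hd', mul_assoc]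
    rw [hc', inv_mul_eq_one] at this
    exact hc (this ▸ hd)
  have hDtop : D ≠ ⊤ := fun h => by
    obtain ⟨d, hd, hne⟩ := hx
    exact hne (hDab d hd x (h ▸ Subgroup.mem_top x))
  have hlin : ∀ lam : Cfsg.IrrCharacter D, (lam : D → ℂ) 1 = 1 := fun lam => by
    have h := Deg.degree_dvd_index lam ⊤ fun a _ c _ => Subtype.ext (hDab _ a.2 _ c.2)
    rw [Subgroup.index_top, Nat.dvd_one] at h
    rw [Deg.apply_one lam, h, Nat.cast_one]
  -- the index of `D` is at most the degree of `η`
  have hf : D.index ≤ Cfsg.charDegree (η : G ⧸ K → ℂ) := by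
    obtain ⟨m, hm⟩ := IsCharacter.exists_sum (isCharacter_restrict (irr_isCharacter η) D)
    have hval : ∀ d : D, (η : G ⧸ K → ℂ) d = ∑ ψ, (m ψ : ℂ) * (ψ : D → ℂ) d := fun d => by
      simpa [Finset.sum_apply] using congrFun hm d
    have hdeg : Cfsg.charDegree (η : G ⧸ K → ℂ) = ∑ ψ, m ψ := by
      have h := hval 1
      simp only [hlin, mul_one, OneMemClass.coe_one, Deg.apply_one η] at h
      exact_mod_cast h
    obtain ⟨lam, hlam, d₁, hd₁⟩ : ∃ lam : Cfsg.IrrCharacter D, m lam ≠ 0 ∧
        ∃ d : D, (lam : D → ℂ) d ≠ 1 := by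
      by_contra! hcon
      obtain ⟨d, hd, hd1⟩ := D.ne_bot_iff_exists_ne_one.mp hD0 |> fun ⟨a, ha⟩ =>
        (⟨(a : G ⧸ K), a.2, fun h => ha (Subtype.ext h)⟩ : ∃ d, d ∈ D ∧ d ≠ 1)
      refine hd1 (hfaith d ?_)
      rw [show d = ((⟨d, hd⟩ : D) : G ⧸ K) from rfl, hval, show (1 : G ⧸ K) = ((1 : D) : G ⧸ K) from rfl,
        hval]
      refine Finset.sum_congr rfl fun ψ _ => ?_
      by_cases h0 : m ψ = 0
      · simp [h0]
      · rw [hcon ψ h0, hlin]
    obtain ⟨fl, hfl⟩ := IsCharacter.exists_hom_of_degree_one (irr_isCharacter lam) (hlin lam)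
    let F : (G ⧸ K) ⧸ D → Cfsg.IrrCharacter D := fun q =>
      ⟨fun d => (lam : D → ℂ) (MulAut.conjNormal q.out d),
        isIrrCharacter_comp_surjective lam.2 (MulAut.conjNormal q.out).toMonoidHom
          (MulAut.conjNormal q.out).surjective⟩
    have hFm : ∀ q, 1 ≤ m (F q) := fun q => by
      have h1 : (m (F q) : ℂ) = Cfsg.classInner (fun d : D => (η : G ⧸ K → ℂ) d) (F q) := by
        rw [hm, classInner_sum_all]
      have h2 : (m lam : ℂ) = Cfsg.classInner (fun d : D => (η : G ⧸ K → ℂ) d) lam := by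
        rw [hm, classInner_sum_all]
      have h3 : Cfsg.classInner (fun d : D => (η : G ⧸ K → ℂ) d) (F q) =
          Cfsg.classInner (fun d : D => (η : G ⧸ K → ℂ) d) lam := by
        rw [classInner_def, classInner_def]
        congr 1
        refine Fintype.sum_equiv (MulAut.conjNormal q.out).toEquiv _ _ fun d => ?_
        show _ = (η : G ⧸ K → ℂ) (MulAut.conjNormal q.out d : D) * _
        rw [MulAut.conjNormal_apply, irr_isClassFunction η]
        rfl
      rw [h3, ← h2, Nat.cast_inj] at h1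
      omega
    have hFinj : Function.Injective F := fun q r h => by
      by_contra hne
      have hg : q.out * r.out⁻¹ ∉ D := fun hm' => hne (by
        rw [← q.out_eq', ← r.out_eq']
        refine (QuotientGroup.eq.mpr ?_).symm
        simpa [mul_assoc] using hDn.conj_mem _ hm' r.out⁻¹)
      have key : ∀ d : D, fl (MulAut.conjNormal (q.out * r.out⁻¹) d) = fl d := fun d => by
        have h' := congrFun (congrArg Subtype.val h) (MulAut.conjNormal r.out⁻¹ d)
        simp only [F, hfl] at h'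
        have h'' := Units.ext h'
        rwa [← MulAut.mul_apply, ← MulAut.mul_apply, ← map_mul, ← map_mul, mul_inv_cancel, map_one,
          MulAut.one_apply] at h''
      obtain ⟨d, hd, hde⟩ := hsurj _ (hout _ hg) d₁ d₁.2
      refine hd₁ ?_
      have hd₁' : d₁ = ⟨d, hd⟩ * (MulAut.conjNormal (q.out * r.out⁻¹) ⟨d, hd⟩⁻¹) := Subtype.ext (by
        simp only [Subgroup.coe_mul, MulAut.conjNormal_apply, InvMemClass.coe_inv]
        rw [← hde]; group)
      rw [hfl, hd₁']
      show (fl _ : ℂ) = 1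
      rw [map_mul fl, key, ← map_mul fl, mul_inv_cancel, map_one, Units.val_one]
    rw [hdeg, Subgroup.index_eq_card, Nat.card_eq_fintype_card, ← Finset.card_univ,
      ← Finset.card_image_of_injective _ hFinj, Finset.card_eq_sum_ones]
    exact (Finset.sum_le_sum fun ψ hψ => by
      obtain ⟨q, -, rfl⟩ := Finset.mem_image.mp hψ; exact hFm q).trans
      (Finset.sum_le_sum_of_subset (Finset.subset_univ _))
  have hbη := degLE_quotient hb K η
  set N := D.comap (QuotientGroup.mk' K) with hN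
  have hidx : N.index = D.index :=
    Subgroup.index_comap_of_surjective D (QuotientGroup.mk'_surjective K)
  by_cases hlt : DegLE N (b - 1)
  · exact step_one (by omega) N hlt (by rw [hidx]; nlinarith)
  obtain ⟨θ, hθ⟩ := degree_eq_of_not_lt hb hlt
  have := Fintype.ofFinite N
  have hKN : K ≤ N := fun k hk => by
    simp [hN, (QuotientGroup.eq_one_iff k).mpr hk]
  -- characters of degree `b` of `N` are invariant, so `θ` vanishes off `K`
  have hinv : ∀ ψ : Cfsg.IrrCharacter N, Cfsg.charDegree (ψ : N → ℂ) = b → ∀ (g : G) (n : N),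
      (ψ : N → ℂ) (MulAut.conjNormal g n) = (ψ : N → ℂ) n := fun ψ hψ g n => by
    obtain ⟨χ, hχ⟩ := exists_over' N ψ
    have hres := restrict_eq_of_le N ψ χ hχ (by rw [hψ]; exact hb χ)
    rw [← hres, ← hres, MulAut.conjNormal_apply]
    exact irr_isClassFunction χ _ g
  let πN : N →* D := ((QuotientGroup.mk' K).comp N.subtype).codRestrict D fun n => n.2
  obtain ⟨x₀, rfl⟩ := QuotientGroup.mk'_surjective K x
  have hsupp : ∀ n : N, n ∉ K.subgroupOf N → (θ : N → ℂ) n = 0 := fun n hn => by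
    by_contra hne
    refine hn ?_
    set n' := MulAut.conjNormal x₀ n with hn'
    have hkey : πN n' = πN n := by
      rw [← mul_inv_eq_one]
      refine Ext.eq_one_of_forall_irr fun lam => ?_
      obtain ⟨f, hfeq⟩ := IsCharacter.exists_hom_of_degree_one (irr_isCharacter lam) (hlin lam)
      have hirr := isIrrCharacter_hom_mul (f.comp πN) θ.2
      have hdeg : Cfsg.charDegree (fun g : N => ((f.comp πN) g : ℂ) * (θ : N → ℂ) g) = b :=
        Deg.degree_of_eq (by simp [Deg.apply_one θ, hθ])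
      have h1 := hinv ⟨_, hirr⟩ hdeg x₀ n
      have hθn : (θ : N → ℂ) n' = (θ : N → ℂ) n := hinv θ hθ x₀ n
      simp only [← hn'] at h1
      rw [hθn] at h1
      have h2 : (f.comp πN) n' = (f.comp πN) n := Units.ext (mul_right_cancel₀ hne h1)
      rw [hfeq]
      simp only [MonoidHom.comp_apply] at h2
      simp [map_mul, map_inv, h2]
    have hc : (QuotientGroup.mk' K (n : G)) * QuotientGroup.mk' K x₀ =
        QuotientGroup.mk' K x₀ * QuotientGroup.mk' K (n : G) := by
      have h := congrArg Subtype.val hkey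
      change QuotientGroup.mk' K ((MulAut.conjNormal x₀ n : N) : G) = QuotientGroup.mk' K (n : G) at h
      rw [MulAut.conjNormal_apply, map_mul, map_mul, map_inv, mul_inv_eq_iff_eq_mul] at h
      exact h.symm
    exact (QuotientGroup.eq_one_iff (n : G)).mp (hfpf _ hx _ n.2 hc)
  have hrel : (K.subgroupOf N).index = Nat.card D := by
    have h1 : K.relIndex N * N.index = K.index := Subgroup.relIndex_mul_index hKN
    have h2 : Nat.card D * D.index = Nat.card (G ⧸ K) := D.card_mul_index
    rw [← Subgroup.index_eq_card, ← h1, hidx] at h2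
    exact (Nat.eq_of_mul_eq_mul_right (Nat.pos_of_ne_zero Subgroup.index_ne_zero_of_finite) h2).symm
  have hDb : Nat.card D ≤ b ^ 2 := hrel ▸ hθ ▸ index_le_of_support θ _ hsupp
  rcases Nat.lt_or_ge b 3 with hb3 | hb3
  · exfalso
    have hb2 : b = 2 := by omega
    subst hb2
    have hf2 : D.index = 2 := by
      have h1 : D.index ≠ 1 := fun h => hDtop (Subgroup.index_eq_one.mp h)
      have h0 : D.index ≠ 0 := Subgroup.index_ne_zero_of_finite
      omega
    set q := QuotientGroup.mk' K x₀ with hq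
    have hxD : q ∉ D := fun h => by
      obtain ⟨d, hd, hne⟩ := hx
      exact hne (hDab d hd _ h)
    have hx2 : q * q = 1 := hfpf q hx _ (Subgroup.mul_self_mem_of_index_two hf2 q) (by group)
    have hodd : ¬ 2 ∣ Nat.card D := fun h => by
      obtain ⟨d, hd⟩ := exists_prime_orderOf_dvd_card' (G := D) 2 h
      have hd2 : (d : G ⧸ K) * d = 1 := by
        have := pow_orderOf_eq_one d
        rw [hd, pow_two] at this
        exact congrArg Subtype.val this
      have hqi : q⁻¹ = q := inv_eq_of_mul_eq_one_right hx2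
      have hm : (d : G ⧸ K) * (q * d * q⁻¹) ∈ D := D.mul_mem d.2 (hDn.conj_mem _ d.2 q)
      have hcm := hDab _ d.2 _ (hDn.conj_mem _ d.2 q)
      have h1 := hfpf q hx _ hm (by
        rw [hqi] at hcm ⊢
        calc (d : G ⧸ K) * (q * d * q) * q = d * (q * d) * (q * q) := by group
          _ = q * (q * d * (q * d)) := by
              rw [hx2, mul_one]
              simp only [← mul_assoc, hx2, one_mul]
          _ = q * (q * d * q * d) := by simp only [mul_assoc]
          _ = q * (d * (q * d * q)) := by rw [hcm])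
      have hcd : (d : G ⧸ K) * q = q * d := by
        have h2 : q * (d : G ⧸ K) * q⁻¹ = (d : G ⧸ K) := by
          rw [← inv_eq_of_mul_eq_one_right h1]
          exact inv_eq_of_mul_eq_one_right hd2
        rw [mul_inv_eq_iff_eq_mul] at h2
        exact h2.symm
      have := hfpf q hx _ d.2 hcd
      have hd1 : d = 1 := Subtype.ext this
      rw [hd1, orderOf_one] at hd
      omega
    have h1lt : 1 < Nat.card D :=
      (Subgroup.one_lt_card_iff_ne_bot D).mpr hD0
    have h3 : Nat.card D = 3 := by omega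
    set K' := K.subgroupOf N with hK'
    have := Fintype.ofFinite K'
    obtain ⟨m, hm⟩ := IsCharacter.exists_sum (isCharacter_restrict (irr_isCharacter θ) K')
    have hsum : ∑ ψ, m ψ ≤ 2 := by
      have h := congrFun hm 1
      simp only [Finset.sum_apply, Pi.smul_apply, smul_eq_mul, OneMemClass.coe_one,
        Deg.apply_one θ, hθ, Deg.apply_one, ← Nat.cast_mul, ← Nat.cast_sum, Nat.cast_inj] at h
      exact h ▸ Finset.sum_le_sum fun ψ _ => Nat.le_mul_of_pos_right _ (Deg.degree_pos ψ)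
    have hsq : ∑ ψ, m ψ * m ψ = 3 := by
      have h := classInner_sum_sum (fun ψ => (m ψ : ℂ)) (fun ψ => (m ψ : ℂ))
      rw [← hm, classInner_def] at h
      simp only [Complex.mul_conj, map_natCast, ← Nat.cast_mul, ← Nat.cast_sum] at h
      rw [← Complex.ofReal_sum, ← Finset.sum_subtype (p := fun n => n ∈ K')
        (Finset.univ.filter fun n => n ∈ K') (fun n => by simp)
        (fun n => Complex.normSq ((θ : N → ℂ) n)), Finset.sum_filter_of_ne (fun n _ hne => by
          by_contra hn; exact hne (by rw [hsupp n hn, Complex.normSq_zero])), sum_normSq θ,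
        ← K'.card_mul_index, hrel, h3, Complex.ofReal_natCast, Nat.cast_mul,
        inv_mul_cancel_left₀ (Nat.cast_ne_zero.mpr Nat.card_pos.ne'), Nat.cast_inj] at h
      exact h.symm
    have hpar : (∑ ψ, m ψ * m ψ) % 2 = (∑ ψ, m ψ) % 2 := by
      rw [Finset.sum_nat_mod, Finset.sum_nat_mod _ _ (fun ψ => m ψ)]
      exact congrArg (· % 2) (Finset.sum_congr rfl fun ψ _ => by
        rcases Nat.mod_two_eq_zero_or_one (m ψ) with h | h <;> simp [Nat.mul_mod, h])
    have hle : ∑ ψ, m ψ * m ψ ≤ (∑ ψ, m ψ) * ∑ ψ, m ψ := by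
      rw [Finset.sum_mul]
      exact Finset.sum_le_sum fun ψ _ =>
        Nat.mul_le_mul_left _ (Finset.single_le_sum (fun _ _ => Nat.zero_le _) (Finset.mem_univ ψ))
    rcases (show (∑ ψ, m ψ) = 0 ∨ (∑ ψ, m ψ) = 1 ∨ (∑ ψ, m ψ) = 2 by omega) with h | h | h <;>
      simp only [h, hsq] at hle hpar <;> omega
  refine step_two hb3 K (fun ψ => ?_) ?_
  · have := two_mul_degree_le hb K η hη ψ
    omega
  · rw [Subgroup.index_eq_card, ← D.card_mul_index, pow_succ]
    exact Nat.mul_le_mul hDb (hf.trans hbη)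

theorem step_perfect (hD0 : commutator (G ⧸ K) ≠ ⊥)
    (hDab : ¬ ∀ x ∈ commutator (G ⧸ K), ∀ y ∈ commutator (G ⧸ K), x * y = y * x) : Step G b := by
  classical
  have := Fintype.ofFinite G
  have := Fintype.ofFinite (G ⧸ K)
  set D := commutator (G ⧸ K) with hDdef
  have hDn : D.Normal := by rw [hDdef]; infer_instance
  have hperf : commutator D = ⊤ := by
    have hne : ⁅D, D⁆ ≠ ⊥ := fun h => hDab fun x hx y hy =>
      (Subgroup.commutator_eq_bot_iff_le_centralizer.mp h hy) x hx
    have h1 : D ≤ ⁅D, D⁆ := hmin _ inferInstance hne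
    refine Subgroup.map_injective D.subtype_injective ?_
    rw [Subgroup.map_subtype_commutator, ← MonoidHom.range_eq_map, Subgroup.range_subtype]
    exact le_antisymm (Subgroup.commutator_le_right _ _) h1
  have hbD : DegLE D b := degLE_subgroup (degLE_quotient hb K) D
  have : Nontrivial D := (Subgroup.nontrivial_iff_ne_bot D).mpr hD0
  have hb5 : 5 ≤ b := by
    by_contra hlt
    exact not_degLE_four_of_perfect hperf fun χ => (hbD χ).trans (by omega)
  have hcD : Subgroup.centralizer (D : Set (G ⧸ K)) = ⊥ := by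
    by_contra h
    have hle := hmin _ inferInstance h
    exact hDab fun x hx y hy => hle hy x hx
  obtain ⟨g, hg1, hgi⟩ : ∃ g : G ⧸ K, g ≠ 1 ∧
      (Subgroup.centralizer ({g} : Set (G ⧸ K))).index ≤ b ^ 2 := by
    by_contra! hcon
    have := Fintype.ofFinite (ConjClasses (G ⧸ K))
    have hsum := sum_degree_sq (G := G ⧸ K)
    simp only [Deg.apply_one, ← Nat.cast_pow, ← Nat.cast_sum, Nat.cast_inj] at hsum
    let one : Cfsg.IrrCharacter (G ⧸ K) := ⟨1, isIrrCharacter_one⟩
    have hone : Cfsg.charDegree (one : G ⧸ K → ℂ) = 1 :=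
      Deg.degree_of_eq (by simp [one])
    rw [← Finset.add_sum_erase _ _ (Finset.mem_univ one), hone] at hsum
    have hup : Nat.card (G ⧸ K) ≤ 1 + (Finset.univ.erase one).card * b ^ 2 := by
      rw [← hsum, one_pow, ← smul_eq_mul, ← Finset.sum_const]
      gcongr with ψ
      exact degLE_quotient hb K ψ
    have hdown : 1 + ((Finset.univ.erase (1 : ConjClasses (G ⧸ K))).card) * (b ^ 2 + 1) ≤
        Nat.card (G ⧸ K) := by
      rw [Nat.card_eq_fintype_card, ← Finset.card_univ (α := G ⧸ K),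
        Finset.card_eq_sum_card_fiberwise (s := (Finset.univ : Finset (G ⧸ K)))
          (f := ConjClasses.mk) (t := Finset.univ) (fun _ _ => Finset.mem_univ _),
        ← Finset.add_sum_erase _ _ (Finset.mem_univ (1 : ConjClasses (G ⧸ K))), ← smul_eq_mul,
        ← Finset.sum_const]
      refine Nat.add_le_add (Finset.card_pos.mpr ⟨1, Finset.mem_filter.mpr ⟨Finset.mem_univ _, rfl⟩⟩) ?_
      refine Finset.sum_le_sum fun C hC => ?_
      obtain ⟨c, rfl⟩ := ConjClasses.mk_surjective C
      have hc1 : c ≠ 1 := fun h => Finset.ne_of_mem_erase hC (by rw [h]; rfl)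
      refine Nat.succ_le_of_lt ((hcon c hc1).trans_le (le_of_eq ?_))
      rw [Subgroup.centralizer_eq_comap_stabilizer]
      refine (Subgroup.index_comap_of_surjective _ (ConjAct.toConjAct (G := G ⧸ K)).surjective).trans ?_
      rw [MulAction.index_stabilizer, ConjAct.orbit_eq_carrier_conjClasses,
        Set.ncard_eq_toFinset_card']
      congr 1
      ext y
      simp [ConjClasses.mem_carrier_iff_mk_eq]
    have hk : (Finset.univ.erase one).card = (Finset.univ.erase (1 : ConjClasses (G ⧸ K))).card := by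
      rw [Finset.card_erase_of_mem (Finset.mem_univ _), Finset.card_erase_of_mem (Finset.mem_univ _),
        Finset.card_univ, Finset.card_univ, ← Nat.card_eq_fintype_card, ← Nat.card_eq_fintype_card,
        card_irr]
    have hpos : (Finset.univ.erase one).card ≠ 0 := fun h => by
      rw [h, zero_mul, add_zero] at hup
      have := Finite.one_lt_card_iff_nontrivial.mpr
        (D.subtype_injective.nontrivial : Nontrivial (G ⧸ K))
      omega
    rw [hk] at hup hpos
    nlinarith [Nat.pos_of_ne_zero hpos]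
  set H := (Subgroup.centralizer ({g} : Set (G ⧸ K))).comap (QuotientGroup.mk' K) with hH
  have hidx : H.index = (Subgroup.centralizer ({g} : Set (G ⧸ K))).index :=
    Subgroup.index_comap_of_surjective _ (QuotientGroup.mk'_surjective K)
  by_cases hlt : DegLE H (b - 1)
  · exact step_one (by omega) H hlt (hidx ▸ hgi)
  obtain ⟨θ, hθ⟩ := degree_eq_of_not_lt hb hlt
  have := Fintype.ofFinite H
  have hKH : K ≤ H := fun k hk => by simp [hH, (QuotientGroup.eq_one_iff k).mpr hk]
  have hsupp : ∀ h : H, h ∉ K.subgroupOf H → (θ : H → ℂ) h = 0 := fun h hh => by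
    by_contra hne
    refine hh ((QuotientGroup.eq_one_iff (h : G)).mp (Subgroup.mem_bot.mp (hcD ▸ ?_)))
    show QuotientGroup.mk' K (h : G) ∈ Subgroup.centralizer (D : Set (G ⧸ K))
    have hnc : D ≤ Subgroup.normalClosure ({g} : Set (G ⧸ K)) :=
      hmin _ inferInstance fun h0 => hg1 (Subgroup.mem_bot.mp
        (h0 ▸ Subgroup.subset_normalClosure (Set.mem_singleton g)))
    refine Subgroup.centralizer_le hnc ?_
    rw [Subgroup.normalClosure, Subgroup.centralizer_closure]
    intro c hc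
    obtain ⟨a, ha, hac⟩ := Group.mem_conjugatesOfSet_iff.mp hc
    obtain ⟨y, rfl⟩ := isConj_iff.mp hac
    obtain ⟨y₀, rfl⟩ := QuotientGroup.mk'_surjective K y
    rw [Set.mem_singleton_iff.mp ha]
    have h1 : QuotientGroup.mk' K (y₀⁻¹ * h * y₀) ∈ Subgroup.centralizer ({g} : Set (G ⧸ K)) :=
      conj_mem_of_ne_zero hb H θ hθ h hne y₀
    rw [Subgroup.mem_centralizer_singleton_iff, map_mul, map_mul, map_inv] at h1
    have h2 := congrArg (fun t => QuotientGroup.mk' K y₀ * t * (QuotientGroup.mk' K y₀)⁻¹) h1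
    simp only [mul_assoc, mul_inv_cancel_left, mul_inv_cancel, mul_one] at h2 ⊢
    exact h2.symm
  refine step_three hb5 K (fun ψ => ?_) ?_
  · have := two_mul_degree_le hb K η hη ψ
    omega
  · rw [← Subgroup.relIndex_mul_index hKH, show b ^ 4 = b ^ 2 * b ^ 2 by ring, hidx]
    exact Nat.mul_le_mul (hθ ▸ index_le_of_support θ _ hsupp) hgi

end Cfsg.Agent.CharDeep.AbIndex
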